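import Cfsg.Agent.CentralExt.Sylow

/-!
# The 2-part of the multiplier: elementary abelian Sylow subgroups of order 8
-/

set_option autoImplicit false

namespace Cfsg.Agent.CentralExt.ElemEight

open Subgroup
open scoped commutatorElement

universe u

variable {G : Type u} [Group G] {S : Subgroup G} {j g : G}

/-- An invariant subgroup containing `j` and one more element is everything. -/
theorem eq_of_invariant [Finite G] (h8 : Nat.card S = 8) (hel : ∀ x ∈ S, x * x = 1) (hj : j ≠ 1)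
    (hg3 : g ^ 3 = 1) (hgj : g * j * g⁻¹ = j) (hfix : ∀ x ∈ S, g * x * g⁻¹ = x → x = 1 ∨ x = j)
    {R : Subgroup G} (hR : R ≤ S) (hgR : ∀ x ∈ R, g * x * g⁻¹ ∈ R) (hjR : j ∈ R) {x : G} (hxR : x ∈ R)
    (hx1 : x ≠ 1) (hxj : x ≠ j) : R = S := by
  classical
  set y := g * x * g⁻¹ with hy
  have hyx : y ≠ x := fun h => (hfix x (hR hxR) h).elim hx1 hxj
  have hy1 : y ≠ 1 := fun h => hx1 (by
    rw [hy, mul_inv_eq_one] at h
    exact mul_eq_left.1 h)
  have hyj : y ≠ j := fun h => hxj (by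
    rw [hy, ← hgj] at h
    exact mul_left_cancel (mul_right_cancel h))
  have hyjx : y ≠ j * x := fun h => by
    have e : g * y * g⁻¹ = x := by
      rw [h, show g * (j * x) * g⁻¹ = g * j * g⁻¹ * (g * x * g⁻¹) by group, hgj, ← hy, h, ← mul_assoc,
        hel j (hR hjR), one_mul]
    have e2 : g * x * g⁻¹ = x := by
      conv_lhs => rw [← e, hy]
      calc g * (g * (g * x * g⁻¹) * g⁻¹) * g⁻¹ = g * g * g * x * (g * g * g)⁻¹ := by group
        _ = x := by rw [show g * g * g = 1 by rw [← hg3, pow_succ, pow_two], inv_one, one_mul, mul_one]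
    exact (hfix x (hR hxR) e2).elim hx1 hxj
  have hjx1 : j * x ≠ 1 := fun h => hxj (by
    have := mul_eq_one_iff_eq_inv.1 h
    rw [eq_comm, inv_eq_iff_eq_inv] at this
    rw [this]
    exact (eq_inv_of_mul_eq_one_left (hel j (hR hjR))).symm)
  refine le_antisymm hR ?_
  have hsub : ∀ z ∈ ([1, j, x, j * x, y] : List G), z ∈ R := by
    intro z hz
    simp only [List.mem_cons, List.not_mem_nil, or_false] at hz
    rcases hz with rfl | rfl | rfl | rfl | rfl
    exacts [one_mem _, hjR, hxR, mul_mem hjR hxR, hgR x hxR]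
  have hnd : ([1, j, x, j * x, y] : List G).Nodup := by
    simp only [List.nodup_cons, List.mem_cons, List.not_mem_nil, List.nodup_nil, or_false, not_or, not_false_iff,
      and_true]
    refine ⟨⟨Ne.symm hj, Ne.symm hx1, Ne.symm hjx1, Ne.symm hy1⟩, ⟨Ne.symm hxj, ?_, Ne.symm hyj⟩, ⟨?_, Ne.symm hyx⟩,
      Ne.symm hyjx⟩
    · exact fun h => hx1 (left_eq_mul.1 h)
    · exact fun h => hj (right_eq_mul.1 h)
  have h5 : 5 ≤ Nat.card R := by
    have := Fintype.ofFinite R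
    rw [Nat.card_eq_fintype_card]
    have hnd' : (([1, j, x, j * x, y] : List G).pmap (fun z hz => (⟨z, hz⟩ : R)) hsub).Nodup :=
      hnd.pmap fun _ _ _ _ h => congrArg Subtype.val h
    have := hnd'.length_le_card
    simpa using this
  have hd : Nat.card R ∣ 8 := h8 ▸ Subgroup.card_dvd_of_le hR
  have h88 : Nat.card R = 8 := by
    have hle := Nat.le_of_dvd (by norm_num) hd
    interval_cases hc : Nat.card R <;> first | rfl | (exfalso; revert hd; decide)
  exact (Subgroup.eq_of_le_of_card_ge hR (by rw [h88, h8])).ge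

/-- With a self-fusion of `j` and an element of order 3 the multiplier has odd order. -/
theorem not_two_dvd [Finite G] (hperf : commutator G = ⊤) (P : Sylow 2 G) (hS : (P : Subgroup G) = S)
    (h8 : Nat.card S = 8) (hel : ∀ x ∈ S, x * x = 1) (hjS : j ∈ S) (hj : j ≠ 1) (hg3 : g ^ 3 = 1)
    (hgj : g * j * g⁻¹ = j) (hgS : ∀ x ∈ S, g * x * g⁻¹ ∈ S)
    (hfix : ∀ x ∈ S, g * x * g⁻¹ = x → x = 1 ∨ x = j) : ¬ 2 ∣ Nat.card (schurMult G) := by
  classical
  have : Fact (Nat.Prime 2) := ⟨Nat.prime_two⟩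
  subst hS
  have hSc : IsMulCommutative ↥(P : Subgroup G) := ⟨⟨fun a b => by
    have e := hel _ (a * b).2
    have ea := hel _ a.2
    have eb := hel _ b.2
    refine Subtype.ext ?_
    simp only [Subgroup.coe_mul] at e ⊢
    calc (a : G) * b = (a : G) * ((a : G) * b * ((a : G) * b)) * b := by rw [e, mul_one]
      _ = ((a : G) * a) * (b * a) * ((b : G) * b) := by group
      _ = (b : G) * a := by rw [ea, eb, one_mul, mul_one]⟩⟩
  -- `j` is fused inside the normaliser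
  obtain ⟨n, hn, hnj⟩ : ∃ n ∈ normalizer ((P : Subgroup G) : Set G), n * j * n⁻¹ ≠ j := by
    by_contra hcon
    push Not at hcon
    have key : ∀ (k : ℕ) (g₀ : G), g₀⁻¹ * j ^ k * g₀ ∈ (P : Subgroup G) → g₀⁻¹ * j ^ k * g₀ = j ^ k := by
      intro k g₀ hmem
      obtain ⟨n, hn, e⟩ := Sylow.conj_eq_normalizer_conj_of_mem P (j ^ k) g₀ (pow_mem hjS k) hmem
      rw [e]
      have hc := hcon n hn
      have hc' : Commute n⁻¹ (j ^ k) := Commute.pow_right (Commute.inv_left (show Commute n j from mul_inv_eq_iff_eq_mul.1 hc)) k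
      rw [hc'.eq, inv_mul_cancel_right]
    have h1 := MonoidHom.transfer_eq_pow (Abelianization.of (G := ↥(P : Subgroup G))) j key
    have h2 : MonoidHom.transfer (Abelianization.of (G := ↥(P : Subgroup G))) j = 1 :=
      MonoidHom.mem_ker.1 (Abelianization.commutator_subset_ker _ (hperf ▸ mem_top j))
    rw [h2, eq_comm, ← MonoidHom.mem_ker, Abelianization.ker_of] at h1
    rw [(commutator_eq_bot_iff_center_eq_top _).2 (Subgroup.eq_top_iff' _ |>.2 fun a =>
      Subgroup.mem_center_iff.2 fun b => hSc.is_comm.comm b a), mem_bot] at h1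
    have h1' : j ^ (P : Subgroup G).index = 1 := congrArg Subtype.val h1
    obtain ⟨k, hk⟩ : Odd (P : Subgroup G).index := Nat.odd_iff.2 (Nat.two_dvd_ne_zero.1 P.not_dvd_index)
    rw [hk, pow_succ, pow_mul, pow_two, hel j hjS, one_pow, one_mul] at h1'
    exact hj h1'
  refine not_dvd_card_schurMult_of_forall 2 fun Δ _ _ τ hτ hp => ?_
  set T : Subgroup Δ := (P : Subgroup G).comap τ with hT
  have hcen : ∀ z ∈ τ.ker, ∀ x : Δ, x * z = z * x := fun z hz x => Subgroup.mem_center_iff.1 (hτ.2.1 hz) x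
  obtain ⟨g', rfl⟩ := hτ.1 g
  obtain ⟨n', rfl⟩ := hτ.1 n
  obtain ⟨a, rfl⟩ := hτ.1 j
  have hgT : ∀ b ∈ T, g' * b * g'⁻¹ ∈ T := fun b hb => by
    show τ (g' * b * g'⁻¹) ∈ (P : Subgroup G)
    rw [map_mul, map_mul, map_inv]
    exact hgS _ hb
  -- everything commutes with a lift of `j`
  have hCa : ∀ b ∈ T, Commute a b := by
    have hz : ∃ z ∈ τ.ker, g' * a * g'⁻¹ = a * z :=
      ⟨a⁻¹ * (g' * a * g'⁻¹), by rw [MonoidHom.mem_ker, map_mul, map_mul, map_mul, map_inv, map_inv, hgj, inv_mul_cancel],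
        by group⟩
    obtain ⟨z, hz, ez⟩ := hz
    set R := (centralizer ({a} : Set Δ) ⊓ T).map τ with hR
    have hRS : R ≤ (P : Subgroup G) := by
      rintro _ ⟨b, hb, rfl⟩
      exact hb.2
    have hgR : ∀ x ∈ R, τ g' * x * (τ g')⁻¹ ∈ R := by
      rintro _ ⟨b, hb, rfl⟩
      refine ⟨g' * b * g'⁻¹, ⟨?_, hgT b hb.2⟩, by simp⟩
      refine mem_centralizer_singleton_iff.2 ?_
      have hab : a * b = b * a := (mem_centralizer_singleton_iff.1 hb.1).symm
      have h1 : (g' * a * g'⁻¹) * (g' * b * g'⁻¹) = (g' * b * g'⁻¹) * (g' * a * g'⁻¹) := by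
        calc _ = g' * (a * b) * g'⁻¹ := by group
          _ = _ := by rw [hab]; group
      rw [ez, mul_assoc a, ← hcen z hz (g' * b * g'⁻¹), ← mul_assoc, ← mul_assoc (g' * b * g'⁻¹)] at h1
      exact (mul_right_cancel h1).symm
    obtain ⟨x, hxS, hxnot⟩ : ∃ x ∈ (P : Subgroup G), ¬ (x = 1 ∨ x = τ a) := by
      by_contra hcon
      push Not at hcon
      have hle : Nat.card (P : Subgroup G) ≤ 2 := by
        refine le_trans (Nat.card_le_card_of_injective (fun x : ↥(P : Subgroup G) =>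
          if (x : G) = 1 then (0 : Fin 2) else 1) fun x y e => ?_) (by simp)
        rcases hcon x x.2 with hx | hx <;> rcases hcon y y.2 with hy | hy <;>
          simp [hx, hy, hj] at e <;> exact Subtype.ext (hx.trans hy.symm)
      omega
    obtain ⟨b, rfl⟩ := hτ.1 x
    set c := g' * b * g'⁻¹ * b⁻¹ with hc
    have hcC : c ∈ centralizer ({a} : Set Δ) ⊓ T := by
      refine Subgroup.mem_inf.2 ⟨mem_centralizer_singleton_iff.2 ?_, mul_mem (hgT b hxS) (inv_mem (show b ∈ T from hxS))⟩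
      set w := ⁅a, b⁆ with hw
      have hwk : w ∈ τ.ker := by
        rw [MonoidHom.mem_ker, hw, map_commutatorElement, commutatorElement_eq_one_iff_mul_comm]
        exact congrArg Subtype.val (hSc.is_comm.comm ⟨_, hjS⟩ ⟨_, hxS⟩)
      have e1 : a * b = w * (b * a) := by simp only [hw, commutatorElement_def]; group
      have e2 : a * (g' * b * g'⁻¹) = w * (g' * b * g'⁻¹ * a) := by
        have h1 : (g' * a * g'⁻¹) * (g' * b * g'⁻¹) = w * ((g' * b * g'⁻¹) * (g' * a * g'⁻¹)) := by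
          calc _ = g' * (a * b) * g'⁻¹ := by group
            _ = (g' * w) * (b * a) * g'⁻¹ := by rw [e1]; group
            _ = _ := by rw [hcen w hwk g']; group
        rw [ez, mul_assoc a, ← hcen z hz (g' * b * g'⁻¹), ← mul_assoc, ← mul_assoc (g' * b * g'⁻¹), ← mul_assoc w] at h1
        exact mul_right_cancel h1
      have e3 : a * b⁻¹ = b⁻¹ * w⁻¹ * a := by
        simp only [hw, commutatorElement_def]; group
      symm
      calc a * c = a * (g' * b * g'⁻¹) * b⁻¹ := by rw [hc]; group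
        _ = w * (g' * b * g'⁻¹) * (a * b⁻¹) := by rw [e2]; group
        _ = g' * b * g'⁻¹ * (w * b⁻¹) * w⁻¹ * a := by rw [e3, ← hcen w hwk (g' * b * g'⁻¹)]; group
        _ = c * a := by rw [← hcen w hwk b⁻¹, hc]; group
    have hcR : τ c ∈ R := ⟨c, hcC, rfl⟩
    have hc' : τ c = τ g' * τ b * (τ g')⁻¹ * (τ b)⁻¹ := by simp [hc]
    have hc1 : τ c ≠ 1 := fun h => hxnot (hfix _ hxS (mul_inv_eq_one.1 (hc' ▸ h)))
    have hca : τ c ≠ τ a := fun h => by
      have e : τ g' * τ b * (τ g')⁻¹ = τ a * τ b := mul_inv_eq_iff_eq_mul.1 (hc' ▸ h)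
      have e2 : τ g' * τ b * (τ g')⁻¹ = τ b := by
        have e3 : τ g' * (τ g' * τ b * (τ g')⁻¹) * (τ g')⁻¹ = τ b := by
          rw [e, show τ g' * (τ a * τ b) * (τ g')⁻¹ = τ g' * τ a * (τ g')⁻¹ * (τ g' * τ b * (τ g')⁻¹) by group,
            hgj, e, ← mul_assoc, hel _ hjS, one_mul]
        conv_lhs => rw [← e3]
        calc τ g' * (τ g' * (τ g' * τ b * (τ g')⁻¹) * (τ g')⁻¹) * (τ g')⁻¹
            = τ g' * τ g' * τ g' * τ b * (τ g' * τ g' * τ g')⁻¹ := by group
          _ = _ := by rw [show τ g' * τ g' * τ g' = 1 by rw [← hg3, pow_succ, pow_two]]; simp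
      exact hxnot (hfix _ hxS e2)
    have haR : τ a ∈ R := ⟨a, ⟨mem_centralizer_singleton_iff.2 rfl, hjS⟩, rfl⟩
    have hRtop := eq_of_invariant h8 hel hj hg3 hgj hfix hRS hgR haR hcR hc1 hca
    intro b' hb'
    obtain ⟨b₀, hb₀, e⟩ : τ b' ∈ R := hRtop ▸ hb'
    have hz0 : b₀⁻¹ * b' ∈ τ.ker := by rw [MonoidHom.mem_ker, map_mul, map_inv, e, inv_mul_cancel]
    have h1 : Commute a b₀ := (mem_centralizer_singleton_iff.1 hb₀.1).symm
    have h2 : Commute a (b₀⁻¹ * b') := hcen _ hz0 a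
    simpa using h1.mul_right h2
  -- the preimage is abelian
  set R := (centralizer (T : Set Δ) ⊓ T).map τ with hR
  have hRS : R ≤ (P : Subgroup G) := by
    rintro _ ⟨b, hb, rfl⟩
    exact hb.2
  have hnorm : ∀ h : Δ, (∀ b, b ∈ T ↔ h * b * h⁻¹ ∈ T) → ∀ x ∈ R, τ h * x * (τ h)⁻¹ ∈ R := by
    rintro h hh _ ⟨b, hb, rfl⟩
    refine ⟨h * b * h⁻¹, Subgroup.mem_inf.2 ⟨?_, (hh b).1 hb.2⟩, by simp⟩
    rw [mem_centralizer_iff]
    intro y hy
    have hy' : h⁻¹ * y * h ∈ T := (hh _).2 (by rwa [show h * (h⁻¹ * y * h) * h⁻¹ = y by group])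
    have := mem_centralizer_iff.1 hb.1 _ hy'
    calc y * (h * b * h⁻¹) = h * ((h⁻¹ * y * h) * b) * h⁻¹ := by group
      _ = h * (b * (h⁻¹ * y * h)) * h⁻¹ := by rw [this]
      _ = h * b * h⁻¹ * y := by group
  have hgR : ∀ x ∈ R, τ g' * x * (τ g')⁻¹ ∈ R := hnorm g' fun b => ⟨hgT b, fun hb => by
    have := hgT _ (hgT _ hb)
    have e : g' * (g' * (g' * b * g'⁻¹) * g'⁻¹) * g'⁻¹ = (g' * g' * g') * b * (g' * g' * g')⁻¹ := by group
    rw [e] at this
    have hz : g' * g' * g' ∈ τ.ker := by rw [MonoidHom.mem_ker, map_mul, map_mul, ← hg3, pow_succ, pow_two]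
    rwa [← hcen _ hz b, mul_inv_cancel_right] at this⟩
  have haR : τ a ∈ R := ⟨a, ⟨mem_centralizer_iff.2 fun y hy => (hCa y hy).eq.symm, hjS⟩, rfl⟩
  have hnR : τ n' * τ a * (τ n')⁻¹ ∈ R := hnorm n' (fun b => by
    show τ b ∈ (P : Subgroup G) ↔ τ (n' * b * n'⁻¹) ∈ (P : Subgroup G)
    rw [map_mul, map_mul, map_inv]
    exact Subgroup.mem_normalizer_iff.1 hn (τ b)) _ haR
  have hn1 : τ n' * τ a * (τ n')⁻¹ ≠ 1 := fun h => hj (by
    rw [mul_inv_eq_one] at h
    exact mul_eq_left.1 h)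
  have hRtop := eq_of_invariant h8 hel hj hg3 hgj hfix hRS hgR haR hnR hn1 hnj
  have hTc : ∀ x ∈ T, ∀ y ∈ T, x * y = y * x := by
    intro x hx y hy
    obtain ⟨x₀, hx₀, e⟩ : τ x ∈ R := hRtop ▸ hx
    have hz0 : x₀⁻¹ * x ∈ τ.ker := by rw [MonoidHom.mem_ker, map_mul, map_inv, e, inv_mul_cancel]
    have h1 : Commute x₀ y := (mem_centralizer_iff.1 hx₀.1 y hy).symm
    have h2 := h1.mul_left ((hcen _ hz0 y).symm : Commute (x₀⁻¹ * x) y)
    rw [mul_inv_cancel_left] at h2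
    exact h2.eq
  refine (eq_bot_iff_forall _).2 fun z hz => ?_
  obtain ⟨k, hk⟩ := hp ⟨z, hz⟩
  have hidx : T.index = (P : Subgroup G).index := index_comap_of_surjective _ hτ.1
  have : T.FiniteIndex := ⟨by rw [hidx]; exact Subgroup.FiniteIndex.index_ne_zero⟩
  have hzc := mem_commutator_of_coprime T (hτ.2.1 hz) (hτ.2.2 hz)
    (show z ∈ T by rw [hT, mem_comap, MonoidHom.mem_ker.1 hz]; exact one_mem _)
    (n := 2 ^ k) (congrArg Subtype.val hk)
    (hidx ▸ Nat.Coprime.pow_right k ((Nat.Prime.coprime_iff_not_dvd Nat.prime_two).2 P.not_dvd_index).symm)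
  rw [(commutator_eq_bot_iff_center_eq_top _).2 (Subgroup.eq_top_iff' _ |>.2 fun x =>
      Subgroup.mem_center_iff.2 fun y => Subtype.ext (hTc _ y.2 _ x.2)), Subgroup.map_bot, mem_bot] at hzc
  exact hzc

end Cfsg.Agent.CentralExt.ElemEight
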