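import Cfsg.Agent.CentralExt.ElemEight
import Cfsg.Agent.CentralExt.FieldAction
import Cfsg.Agent.CentralExt.Bounds
import Cfsg.Agent.ReeG2.Central
import Cfsg.Agent.KSG.TwAutG2

/-!
# The Schur multiplier of ²G₂(q) is trivial
-/

set_option autoImplicit false

namespace Cfsg.Agent.CentralExt.Ree

open Subgroup Cfsg.Lie Cfsg.Agent.ChevGrp Cfsg.Agent.ChevTw Cfsg.Agent.KSG.TwAutG2
open scoped commutatorElement MatrixGroups

universe u

/-- Commutators do not depend on the preimages in a central extension. -/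
theorem comm_congr {Γ G : Type*} [Group Γ] [Group G] {σ : Γ →* G} (hc : σ.ker ≤ center Γ) {x y x' y' : Γ}
    (hx : σ x' = σ x) (hy : σ y' = σ y) : ⁅x', y'⁆ = ⁅x, y⁆ := by
  have hz : ∀ {a b : Γ}, σ b = σ a → ∃ z ∈ center Γ, b = a * z := fun {a b} h =>
    ⟨a⁻¹ * b, hc (by rw [MonoidHom.mem_ker, map_mul, map_inv, h, inv_mul_cancel]), by group⟩
  obtain ⟨z, hzc, rfl⟩ := hz hx
  obtain ⟨w, hwc, rfl⟩ := hz hy
  have h1 : ∀ g, z * g = g * z := fun g => (mem_center_iff.1 hzc g).symm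
  have h2 : ∀ g, w * g = g * w := fun g => (mem_center_iff.1 hwc g).symm
  simp only [commutatorElement_def, mul_inv_rev]
  calc x * z * (y * w) * (z⁻¹ * x⁻¹) * (w⁻¹ * y⁻¹)
      = x * (z * (y * w)) * z⁻¹ * x⁻¹ * w⁻¹ * y⁻¹ := by group
    _ = x * y * w * x⁻¹ * w⁻¹ * y⁻¹ := by rw [h1 (y * w)]; group
    _ = x * y * (w * x⁻¹) * w⁻¹ * y⁻¹ := by group
    _ = x * y * x⁻¹ * y⁻¹ := by rw [h2 x⁻¹]; group

section Field

variable {K : Type*} [Field K] [Fintype K] {m : ℕ} (hK : Fintype.card K = 3 ^ (2 * m + 1))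

include hK in
theorem three_eq_zero : (3 : K) = 0 := by
  have := charG2 hK
  exact_mod_cast CharP.cast_eq_zero K 3

include hK in
theorem chiU_mem (c : Kˣ) : (∃ x : Kˣ, chiU m x = c) ∨ ∃ x : Kˣ, chiU m x = -c := by
  classical
  have := charG2 hK
  have hq' : ∀ y : Kˣ, y ^ (3 * ((3 ^ m : ℕ) : ℤ) * ((3 ^ m : ℕ) : ℤ)) = y := fun y => by
    rw [show (3 : ℤ) * ((3 ^ m : ℕ) : ℤ) * ((3 ^ m : ℕ) : ℤ) = ((3 * 3 ^ m * 3 ^ m : ℕ) : ℤ) by push_cast; ring,
      zpow_natCast, ReeG2.unit_pow_q K hK]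
  have hsq : ∀ d : K, d ≠ 0 → IsSquare d → ∃ x : Kˣ, (chiU m x : K) = d := by
    rintro d hd ⟨r, rfl⟩
    have hr : r ≠ 0 := fun h => hd (by simp [h])
    refine ⟨Units.mk0 r hr ^ (3 * ((3 ^ m : ℕ) : ℤ) + 1), ?_⟩
    rw [chiU, ← zpow_mul, show (3 * ((3 ^ m : ℕ) : ℤ) + 1) * (3 * ((3 ^ m : ℕ) : ℤ) - 1) =
      1 + 1 + 3 * (3 * ((3 ^ m : ℕ) : ℤ) * ((3 ^ m : ℕ) : ℤ) - 1) by ring, zpow_add, zpow_add, zpow_one,
      mul_comm (3 : ℤ) (3 * _ * _ - 1), zpow_mul, zpow_sub, hq', zpow_one, mul_inv_cancel, one_zpow, mul_one]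
    rfl
  have hchar : ringChar K ≠ 2 := by rw [ringChar.eq K 3]; decide
  have hodd : Odd (Fintype.card K / 2) := by
    rw [hK]
    have h4 : 3 ^ (2 * m + 1) % 4 = 3 := by rw [pow_succ, pow_mul, Nat.mul_mod, Nat.pow_mod]; norm_num
    rw [Nat.odd_iff]
    omega
  rcases FiniteField.pow_dichotomy hchar c.ne_zero with h | h
  · obtain ⟨x, hx⟩ := hsq c c.ne_zero ((FiniteField.isSquare_iff hchar c.ne_zero).2 h)
    exact Or.inl ⟨x, Units.ext hx⟩
  · obtain ⟨x, hx⟩ := hsq (-c : K) (neg_ne_zero.2 c.ne_zero)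
      ((FiniteField.isSquare_iff hchar (neg_ne_zero.2 c.ne_zero)).2 (by rw [hodd.neg_pow, h, neg_neg]))
    exact Or.inr ⟨x, Units.ext (by rw [hx, Units.val_neg])⟩

include hK in
theorem chi_preimage (a : Kˣ) : ∃ x : Kˣ, chi m x = a ∧ x = a ^ (3 * 3 ^ m) * a ^ 2 := by
  obtain ⟨x, rfl⟩ := chi_surjective hK a
  refine ⟨x, rfl, ?_⟩
  have hq : x ^ (3 * ((3 ^ m : ℕ) : ℤ) * ((3 ^ m : ℕ) : ℤ)) = x := by
    rw [show (3 : ℤ) * ((3 ^ m : ℕ) : ℤ) * ((3 ^ m : ℕ) : ℤ) = ((3 * 3 ^ m * 3 ^ m : ℕ) : ℤ) by push_cast; ring,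
      zpow_natCast, ReeG2.unit_pow_q K hK]
  have e1 : chi m x ^ (3 * 3 ^ m) * chi m x ^ 2 =
      x ^ ((2 - 3 * ((3 ^ m : ℕ) : ℤ)) * (2 + 3 * ((3 ^ m : ℕ) : ℤ))) := by
    rw [← pow_add, ← zpow_natCast, chi, ← zpow_mul]
    congr 1
    push_cast
    ring
  rw [e1, show ((2 : ℤ) - 3 * ((3 ^ m : ℕ) : ℤ)) * (2 + 3 * ((3 ^ m : ℕ) : ℤ)) =
    1 + (3 * ((3 ^ m : ℕ) : ℤ) * ((3 ^ m : ℕ) : ℤ) - 1) * (-3) by ring, zpow_add, zpow_one, zpow_mul,
    zpow_sub, hq, zpow_one, mul_inv_cancel, one_zpow, mul_one]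

/-- The power of the weight of the first coordinate giving the third. -/
def gPow (m : ℕ) (a : K) : K := a ^ (3 * 3 ^ m) * a ^ 2

include hK in
theorem exists_nonadd (hm : 1 ≤ m) :
    ∃ a : K, a ≠ 0 ∧ 1 + a ≠ 0 ∧ (gPow m (1 + a))⁻¹ ≠ 1 + (gPow m a)⁻¹ := by
  classical
  set N := 3 * 3 ^ m + 2 with hN
  have hsize : 2 * N < Fintype.card K - 2 := by
    rw [hK, hN, pow_succ, pow_mul, ← pow_mul, mul_comm 2 m, pow_mul]
    have : 3 ≤ 3 ^ m := Nat.le_self_pow (by omega) 3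
    have h2 : (3 ^ m) ^ 2 = 3 ^ m * 3 ^ m := pow_two _
    rw [h2]
    have h3 : 3 * 3 ^ m ≤ 3 ^ m * 3 ^ m := Nat.mul_le_mul_right _ this
    omega
  by_contra hcon
  push Not at hcon
  let P : Polynomial K := (Polynomial.X + 1) ^ N * (Polynomial.X ^ N + 1) - Polynomial.X ^ N
  have hP : P ≠ 0 := by
    intro h
    have h' := congrArg (Polynomial.eval 0) h
    simp [P, hN] at h'
  have hsub : (Finset.univ : Finset K) \ {0, -1} ⊆ P.roots.toFinset := by
    intro a ha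
    simp only [Finset.mem_sdiff, Finset.mem_univ, Finset.mem_insert, Finset.mem_singleton, true_and, not_or] at ha
    have ha1 : 1 + a ≠ 0 := fun h => ha.2 (eq_neg_of_add_eq_zero_right h)
    have e := hcon a ha.1 ha1
    have hg : ∀ b : K, gPow m b = b ^ N := fun b => by rw [gPow, ← pow_add]
    rw [hg, hg] at e
    have ha0 := pow_ne_zero N ha.1
    have hb0 := pow_ne_zero N ha1
    field_simp at e
    simp only [Multiset.mem_toFinset, Polynomial.mem_roots hP, Polynomial.IsRoot.def, P, Polynomial.eval_sub,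
      Polynomial.eval_mul, Polynomial.eval_pow, Polynomial.eval_add, Polynomial.eval_X, Polynomial.eval_one,
      add_comm a 1]
    linear_combination -e
  have h1 : Fintype.card K - 2 ≤ ((Finset.univ : Finset K) \ {0, -1}).card := by
    rw [Finset.card_sdiff, Finset.inter_univ, Finset.card_univ]
    have : ({0, -1} : Finset K).card ≤ 2 := Finset.card_le_two
    omega
  have h2 : P.natDegree ≤ 2 * N := by
    simp only [P]
    compute_degree
    all_goals omega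
  have := (Finset.card_le_card hsub).trans ((Multiset.toFinset_card_le _).trans (Polynomial.card_roots' P))
  omega

end Field

section Three

variable {K : Type*} [Field K] [Fintype K] {m : ℕ} (hK : Fintype.card K = 3 ^ (2 * m + 1))
variable {Γ : Type u} [Group Γ]

/-- A preimage of a unipotent element. -/
noncomputable def pre {σ : Γ →* ↥(grpG2 hK).Tw} (hσ : Function.Surjective σ) (g : ↥(grpG2 hK).Tw) : Γ :=
  Function.surjInv hσ g

/-- The commutator subgroup of the preimage of `U` meets a central kernel of 3-power order trivially. -/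
theorem comm_inf_ker (hm : 1 ≤ m) {σ : Γ →* ↥(grpG2 hK).Tw} (hs : Function.Surjective σ)
    (hc : σ.ker ≤ center Γ) (hp : IsPGroup 3 σ.ker) (T : Subgroup Γ)
    (hT : ∀ g ∈ T, ∃ t u v, σ g = X hK t u v) {z : Γ} (hz : z ∈ σ.ker)
    (hzT : z ∈ (commutator ↥T).map T.subtype) : z = 1 := by
  classical
  have h3 := three_eq_zero hK
  have hcen : ∀ {w : Γ}, σ w = 1 → ∀ g, g * w = w * g := fun {w} hw g => mem_center_iff.1 (hc hw) g
  have htwo : ∀ w : Γ, σ w = 1 → w * w = 1 → w = 1 := by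
    intro w hw h2
    obtain ⟨k, hk⟩ := hp ⟨w, hw⟩
    have hk' : w ^ 3 ^ k = 1 := congrArg Subtype.val hk
    obtain ⟨r, hr⟩ : Odd (3 ^ k) := Odd.pow (by decide)
    rwa [hr, pow_succ, pow_mul, pow_two, h2, one_pow, one_mul] at hk'
  -- a torus element without fixed points on the derived group
  obtain ⟨x₀, hx1, hx2⟩ := chi_root hK hm
  have hu0 : (chiU m x₀ : K) - 1 ≠ 0 := by
    intro h
    have h1 : chiU m x₀ = 1 := Units.ext (sub_eq_zero.1 h)
    have e := H_conj hK x₀ 0 1 0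
    rw [h1, mul_zero, mul_zero, Units.val_one, one_mul] at e
    exact one_ne_zero ((ReeG2.fix_cases K hK (congrArg Subtype.val (mul_inv_eq_iff_eq_mul.1 e))).2 hx2)
  have hv0 : (x₀ : K) - 1 ≠ 0 := fun h => hx1 (Units.ext (sub_eq_zero.1 h))
  obtain ⟨τ, hτ⟩ := hs (H hK x₀)
  obtain ⟨lift, hlift⟩ : ∃ lift : ↥(grpG2 hK).Tw → Γ, ∀ g, σ (lift g) = g := ⟨Function.surjInv hs, Function.surjInv_eq hs⟩
  have hU1c : ∀ u v u' v' : K, X hK 0 u v * X hK 0 u' v' = X hK 0 (u + u') (v + v') := fun u v u' v' => by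
    rw [X_mul]; congr 1 <;> simp
  -- commuting pairs
  have hcommσ : ∀ {a b : Γ}, Commute (σ a) (σ b) → σ ⁅a, b⁆ = 1 := fun {a b} h => by
    rw [map_commutatorElement, commutatorElement_eq_one_iff_mul_comm]; exact h
  have hU1comm : ∀ u v u' v' : K, Commute (X hK 0 u v) (X hK 0 u' v') := fun u v u' v' => by
    rw [commute_iff_eq, hU1c, hU1c, add_comm u, add_comm v]
  let : CommGroup σ.ker :=
    { (inferInstance : Group σ.ker) with
      mul_comm := fun a b => Subtype.ext (hcen b.2 (a : Γ)) }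
  let P : K → K → K → K → Additive σ.ker := fun u v u' v' => Additive.ofMul
    ⟨⁅lift (X hK 0 u v), lift (X hK 0 u' v')⁆, hcommσ (by rw [hlift, hlift]; exact hU1comm _ _ _ _)⟩
  have hPext : ∀ {w w' : Γ} (h : σ ⁅w, w'⁆ = 1) (u v u' v' : K), σ w = X hK 0 u v → σ w' = X hK 0 u' v' →
      (Additive.ofMul ⟨⁅w, w'⁆, h⟩ : Additive σ.ker) = P u v u' v' := by
    intro w w' h u v u' v' e e'
    exact congrArg Additive.ofMul (Subtype.ext (comm_congr hc (by rw [e, hlift]) (by rw [e', hlift])))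
  have hPl : ∀ u v u₂ v₂ u' v', P (u + u₂) (v + v₂) u' v' = P u v u' v' + P u₂ v₂ u' v' := by
    intro u v u₂ v₂ u' v'
    apply Additive.toMul.injective
    apply Subtype.ext
    show ⁅lift (X hK 0 (u + u₂) (v + v₂)), _⁆ = ⁅lift (X hK 0 u v), _⁆ * ⁅lift (X hK 0 u₂ v₂), _⁆
    rw [← commutatorElement_mul_left_of_central (hc (hcommσ (by rw [hlift, hlift]; exact hU1comm _ _ _ _)))]
    exact comm_congr hc (by rw [map_mul, hlift, hlift, hlift, hU1c]) rfl
  have hPr : ∀ u v u₂ v₂ u' v', P u' v' (u + u₂) (v + v₂) = P u' v' u v + P u' v' u₂ v₂ := by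
    intro u v u₂ v₂ u' v'
    have key : ∀ a b c d, P a b c d = -P c d a b := fun a b c d => by
      apply Additive.toMul.injective
      apply Subtype.ext
      exact (commutatorElement_inv (lift (X hK 0 c d)) (lift (X hK 0 a b))).symm
    rw [key u' v' (u + u₂), key u' v' u, key u' v' u₂, hPl]
    abel
  have hPinv : ∀ (x : Kˣ) u v u' v', P ((chiU m x : K) * u) ((x : K) * v) ((chiU m x : K) * u') ((x : K) * v') =
      P u v u' v' := by
    intro x u v u' v'
    obtain ⟨ρ, hρ⟩ := hs (H hK x)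
    apply Additive.toMul.injective
    apply Subtype.ext
    show ⁅lift _, lift _⁆ = ⁅lift (X hK 0 u v), lift (X hK 0 u' v')⁆
    rw [comm_congr hc (x := ρ * lift (X hK 0 u v) * ρ⁻¹) (y := ρ * lift (X hK 0 u' v') * ρ⁻¹)
      (by rw [map_mul, map_mul, map_inv, hlift, hlift, hρ, H_conj, mul_zero])
      (by rw [map_mul, map_mul, map_inv, hlift, hlift, hρ, H_conj, mul_zero]), ← conjugate_commutatorElement]
    rw [hcen (hcommσ (by rw [hlift, hlift]; exact hU1comm _ _ _ _)) ρ, mul_inv_cancel_right]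
  have hPhalf : ∀ p : Additive σ.ker, p + p = 0 → p = 0 := by
    intro p h
    apply Additive.toMul.injective
    apply Subtype.ext
    exact htwo _ p.toMul.2 (congrArg (fun q : Additive σ.ker => ((q.toMul : σ.ker) : Γ)) h)
  obtain ⟨d, hd⟩ := exists_not_cube hK hm
  have hd0 : d ≠ 0 := fun h => hd (by simp [h])
  have hd1 : d + 1 ≠ 0 := fun h => hd (by rw [eq_neg_of_add_eq_zero_left h]; ring)
  have hd2 : d ^ 2 + d + 1 ≠ 0 := fun h => hd (by
    have h' : (d - 1) * (d - 1) = 0 := by linear_combination h - d * h3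
    rw [sub_eq_zero.1 (mul_self_eq_zero.1 h'), one_pow])
  have hPzero : ∀ u v u' v', P u v u' v' = 0 := by
    have hz : P 0 0 0 0 = 0 := by
      have := hPl 0 0 0 0 0 0
      simp only [add_zero] at this
      exact left_eq_add.1 this
    have hneg : ∀ u v u' v', P (-u) (-v) u' v' = -P u v u' v' := by
      intro u v u' v'
      have := hPl (-u) (-v) u v u' v'
      rw [neg_add_cancel, neg_add_cancel] at this
      have hz' : P 0 0 u' v' = 0 := by
        have := hPl 0 0 0 0 u' v'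
        simp only [add_zero] at this
        exact left_eq_add.1 this
      rw [hz'] at this
      exact eq_neg_of_add_eq_zero_left this.symm
    have huv : ∀ u v, P u 0 0 v = 0 := by
      intro u v
      refine hPhalf _ ?_
      have h := hPinv (-1) u 0 0 v
      simp only [chi_neg_one.2, Units.val_one, one_mul, mul_zero, Units.val_neg, neg_mul] at h
      have e : P u 0 0 (-v) = -P u 0 0 v := by
        have := hPr 0 (-v) 0 v u 0
        rw [add_zero, neg_add_cancel] at this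
        have hz' : P u 0 0 0 = 0 := by
          have := hPr 0 0 0 0 u 0
          simp only [add_zero] at this
          exact left_eq_add.1 this
        rw [hz'] at this
        exact eq_neg_of_add_eq_zero_left this.symm
      rw [e] at h
      nth_rewrite 1 [← h]
      exact neg_add_cancel _
    have hvu : ∀ u v, P 0 v u 0 = 0 := by
      intro u v
      have h := huv u v
      apply Additive.toMul.injective
      apply Subtype.ext
      have h' : ⁅lift (X hK 0 u 0), lift (X hK 0 0 v)⁆ = 1 :=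
        congrArg (fun q : Additive σ.ker => ((q.toMul : σ.ker) : Γ)) h
      show ⁅lift (X hK 0 0 v), lift (X hK 0 u 0)⁆ = 1
      rw [← commutatorElement_inv, h', inv_one]
    have hvv : ∀ v v', P 0 v 0 v' = 0 := by
      refine pairing_eq_zero (fun v v' => P 0 v 0 v') (fun a b c => ?_) (fun a b c => ?_) hd0
        (fun a b => ?_) (fun a b => ?_) hd2
      · simpa using hPl 0 a 0 b 0 c
      · simpa using hPr 0 b 0 c 0 a
      · simpa using hPinv (Units.mk0 d hd0) 0 a 0 b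
      · simpa using hPinv (Units.mk0 (d + 1) hd1) 0 a 0 b
    have hinvU : ∀ (c : Kˣ) u u', P ((c : K) * u) 0 ((c : K) * u') 0 = P u 0 u' 0 := by
      intro c u u'
      rcases chiU_mem hK c with ⟨x, rfl⟩ | ⟨x, hx⟩
      · simpa using hPinv x u 0 u' 0
      · have h := hPinv x u 0 u' 0
        rw [hx] at h
        simp only [Units.val_neg, neg_mul, mul_zero] at h
        have e1 := hneg ((c : K) * u) 0 (-((c : K) * u')) 0
        rw [neg_zero] at e1
        rw [e1] at h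
        have e2 : P ((c : K) * u) 0 (-((c : K) * u')) 0 = -P ((c : K) * u) 0 ((c : K) * u') 0 := by
          have := hPr (-((c : K) * u')) 0 ((c : K) * u') 0 ((c : K) * u) 0
          rw [add_zero, neg_add_cancel] at this
          have hz' : P ((c : K) * u) 0 0 0 = 0 := by
            have := hPr 0 0 0 0 ((c : K) * u) 0
            simp only [add_zero] at this
            exact left_eq_add.1 this
          rw [hz'] at this
          exact eq_neg_of_add_eq_zero_left this.symm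
        rw [e2, neg_neg] at h
        exact h
    have huu : ∀ u u', P u 0 u' 0 = 0 := by
      refine pairing_eq_zero (fun u u' => P u 0 u' 0) (fun a b c => ?_) (fun a b c => ?_) hd0
        (fun a b => hinvU (Units.mk0 d hd0) a b) (fun a b => hinvU (Units.mk0 (d + 1) hd1) a b) hd2
      · simpa using hPl a 0 b 0 c 0
      · simpa using hPr b 0 c 0 a 0
    intro u v u' v'
    have h1 := hPl u 0 0 v u' v'
    rw [add_zero, zero_add] at h1
    have h2 := hPr u' 0 0 v' u 0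
    rw [add_zero, zero_add, huu, huv, add_zero] at h2
    have h4 := hPr u' 0 0 v' 0 v
    rw [add_zero, zero_add, hvu, hvv, add_zero] at h4
    rw [h1, h2, h4, add_zero]
  -- the preimage of the derived group is abelian
  have hU1 : ∀ a b : Γ, (∃ u v, σ a = X hK 0 u v) → (∃ u v, σ b = X hK 0 u v) → Commute a b := by
    rintro a b ⟨u, v, ea⟩ ⟨u', v', eb⟩
    rw [commute_iff_eq, ← commutatorElement_eq_one_iff_mul_comm]
    have h := hPext (hcommσ (by rw [ea, eb]; exact hU1comm _ _ _ _)) u v u' v' ea eb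
    rw [hPzero] at h
    exact congrArg (fun q : Additive σ.ker => ((q.toMul : σ.ker) : Γ)) h
  -- its complement to the kernel
  let μ : K → K → Γ := fun u v => ⁅τ, lift (X hK 0 (u / ((chiU m x₀ : K) - 1)) (v / ((x₀ : K) - 1)))⁆
  have hμσ : ∀ u v, σ (μ u v) = X hK 0 u v := by
    intro u v
    show σ ⁅τ, _⁆ = _
    rw [map_commutatorElement, hτ, hlift, commutatorElement_def, mul_inv_eq_iff_eq_mul, H_conj, mul_zero, hU1c]
    congr 1
    · field_simp
      ring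
    · field_simp
      ring
  have hμadd : ∀ u v u' v', μ (u + u') (v + v') = μ u v * μ u' v' := by
    intro u v u' v'
    set a := lift (X hK 0 (u / ((chiU m x₀ : K) - 1)) (v / ((x₀ : K) - 1))) with ha
    set b := lift (X hK 0 (u' / ((chiU m x₀ : K) - 1)) (v' / ((x₀ : K) - 1))) with hb
    have e : μ (u + u') (v + v') = ⁅τ, a * b⁆ :=
      comm_congr hc rfl (by rw [map_mul, ha, hb, hlift, hlift, hlift, hU1c, add_div, add_div])
    have h' : Commute a ⁅τ, b⁆ := hU1 _ _ ⟨_, _, hlift _⟩ ⟨u', v', hμσ u' v'⟩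
    rw [e]
    calc ⁅τ, a * b⁆ = ⁅τ, a⁆ * (a * ⁅τ, b⁆ * a⁻¹) := by simp only [commutatorElement_def]; group
      _ = _ := by rw [h'.eq, mul_inv_cancel_right]
  have hμinv : ∀ (x : Kˣ) (ρ : Γ), σ ρ = H hK x → ∀ u v,
      ρ * μ u v * ρ⁻¹ = μ ((chiU m x : K) * u) ((x : K) * v) := by
    intro x ρ hρ u v
    show ρ * ⁅τ, _⁆ * ρ⁻¹ = ⁅τ, _⁆
    rw [conjugate_commutatorElement]
    refine comm_congr hc ?_ ?_
    · rw [map_mul, map_mul, map_inv, hρ, hτ, mul_inv_eq_iff_eq_mul]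
      exact Subtype.ext (((Commute.all x x₀).map (ReeG2.tor K m)).eq)
    · rw [map_mul, map_mul, map_inv, hρ, hlift, hlift, H_conj, mul_zero, mul_div_assoc, mul_div_assoc]
  -- the projection
  choose cu cv hcuv using fun (a : Γ) (ha : ∃ u v, σ a = X hK 0 u v) => ha
  let π : Γ → Γ := fun a => if h : ∃ u v, σ a = X hK 0 u v then a * (μ (cu a h) (cv a h))⁻¹ else 1
  have hπ : ∀ a u v, σ a = X hK 0 u v → π a = a * (μ u v)⁻¹ := by
    intro a u v e
    have h : ∃ u v, σ a = X hK 0 u v := ⟨u, v, e⟩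
    show (if h : _ then _ else _) = _
    rw [dif_pos h]
    obtain ⟨-, e1, e2⟩ := X_inj hK ((hcuv a h).symm.trans e)
    rw [e1, e2]
  have hπk : ∀ a u v, σ a = X hK 0 u v → σ (π a) = 1 := fun a u v e => by
    rw [hπ a u v e, map_mul, map_inv, hμσ, e, mul_inv_cancel]
  have hπmul : ∀ a b u v u' v', σ a = X hK 0 u v → σ b = X hK 0 u' v' → π (a * b) = π a * π b := by
    intro a b u v u' v' ea eb
    rw [hπ (a * b) (u + u') (v + v') (by rw [map_mul, ea, eb, hU1c]), hπ a u v ea, hμadd, mul_inv_rev]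
    have hk := hcen (hπk b u' v' eb) (μ u v)⁻¹
    calc a * b * ((μ u' v')⁻¹ * (μ u v)⁻¹) = a * (b * (μ u' v')⁻¹ * (μ u v)⁻¹) := by group
      _ = a * (π b * (μ u v)⁻¹) := by rw [← hπ b u' v' eb]
      _ = _ := by rw [← hk]; group
  have hπker : ∀ a, σ a = 1 → π a = a := fun a e => by
    have h00 : μ 0 0 = 1 := by
      have := hμadd 0 0 0 0
      simp only [add_zero] at this
      exact left_eq_mul.1 this
    rw [hπ a 0 0 (by rw [e]; exact (X_zero hK).symm), h00, inv_one, mul_one]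
  have hπρ : ∀ (x : Kˣ) (ρ : Γ), σ ρ = H hK x → ∀ a u v, σ a = X hK 0 u v → π (ρ * a * ρ⁻¹) = π a := by
    intro x ρ hρ a u v e
    rw [hπ (ρ * a * ρ⁻¹) ((chiU m x : K) * u) ((x : K) * v)
      (by rw [map_mul, map_mul, map_inv, hρ, e, H_conj, mul_zero]), ← hμinv x ρ hρ]
    have hk := hcen (hπk a u v e) ρ
    calc ρ * a * ρ⁻¹ * (ρ * μ u v * ρ⁻¹)⁻¹ = ρ * (a * (μ u v)⁻¹) * ρ⁻¹ := by group
      _ = π a := by rw [← hπ a u v e, hk, mul_inv_cancel_right]
  -- commutators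
  let InU : Γ → Prop := fun g => ∃ t u v, σ g = X hK t u v
  let InU1 : Γ → Prop := fun g => ∃ u v, σ g = X hK 0 u v
  have hXcomm : ∀ t u v u' v', ⁅X hK t u v, X hK 0 u' v'⁆ = X hK 0 0 (t * u') := by
    intro t u v u' v'
    rw [commutatorElement_def, mul_inv_eq_iff_eq_mul, mul_inv_eq_iff_eq_mul, X_mul, X_mul, X_mul]
    congr 1 <;> simp <;> ring
  have hσc : ∀ {g a : Γ} {t u v u' v' : K}, σ g = X hK t u v → σ a = X hK 0 u' v' →
      σ ⁅g, a⁆ = X hK 0 0 (t * u') := fun {g a t u v u' v'} eg ea => by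
    rw [map_commutatorElement, eg, ea, hXcomm]
  -- the pairing of the first and the third coordinate
  let β : K → K → Additive σ.ker := fun t v => Additive.ofMul
    ⟨⁅lift (X hK t 0 0), lift (X hK 0 0 v)⁆, by
      rw [MonoidHom.mem_ker, hσc (hlift _) (hlift _), mul_zero, X_zero]⟩
  have hβext : ∀ {g a : Γ} {t u u₁ v : K}, σ g = X hK t u u₁ → σ a = X hK 0 0 v →
      ⁅g, a⁆ = ((β t v).toMul : σ.ker) := by
    intro g a t u u₁ v eg ea
    obtain ⟨w, hw, rfl⟩ : ∃ w, InU1 w ∧ g = lift (X hK t 0 0) * w := by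
      refine ⟨(lift (X hK t 0 0))⁻¹ * g, ⟨u, u₁, ?_⟩, by group⟩
      rw [map_mul, map_inv, hlift, eg, inv_mul_eq_iff_eq_mul, X_mul]
      congr 1 <;> simp
    have hwa : Commute w a := hU1 _ _ hw ⟨0, v, ea⟩
    show _ = ⁅lift (X hK t 0 0), lift (X hK 0 0 v)⁆
    rw [← comm_congr hc (x' := lift (X hK t 0 0)) rfl (show σ a = σ (lift (X hK 0 0 v)) by rw [hlift, ea])]
    simp only [commutatorElement_def]
    calc _ = lift (X hK t 0 0) * (w * a * w⁻¹) * (lift (X hK t 0 0))⁻¹ * a⁻¹ := by group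
      _ = _ := by rw [hwa.eq, mul_inv_cancel_right]
  have hβl : ∀ t t' v, β (t + t') v = β t v + β t' v := by
    intro t t' v
    obtain ⟨t₀, u₀, v₀, e⟩ : ∃ a b c, X hK t 0 0 * X hK t' 0 0 = X hK a b c := ⟨_, _, _, X_mul hK t 0 0 t' 0 0⟩
    rw [X_mul] at e
    apply Additive.toMul.injective
    apply Subtype.ext
    show ((β (t + t') v).toMul : σ.ker).1 = ⁅lift (X hK t 0 0), lift (X hK 0 0 v)⁆ * ⁅lift (X hK t' 0 0), lift (X hK 0 0 v)⁆
    rw [← commutatorElement_mul_left_of_central (hc (by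
      rw [MonoidHom.mem_ker, hσc (hlift _) (hlift _), mul_zero, X_zero]))]
    exact (hβext (g := lift (X hK t 0 0) * lift (X hK t' 0 0)) (by rw [map_mul, hlift, hlift, X_mul])
      (hlift _)).symm
  have hβr : ∀ t v v', β t (v + v') = β t v + β t v' := by
    intro t v v'
    apply Additive.toMul.injective
    apply Subtype.ext
    show _ = ⁅lift (X hK t 0 0), lift (X hK 0 0 v)⁆ * ⁅lift (X hK t 0 0), lift (X hK 0 0 v')⁆
    rw [← hβext (g := lift (X hK t 0 0)) (hlift _) (a := lift (X hK 0 0 v) * lift (X hK 0 0 v'))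
      (by rw [map_mul, hlift, hlift, hU1c, add_zero])]
    have hk : σ ⁅lift (X hK t 0 0), lift (X hK 0 0 v')⁆ = 1 := by rw [hσc (hlift _) (hlift _), mul_zero, X_zero]
    calc ⁅lift (X hK t 0 0), lift (X hK 0 0 v) * lift (X hK 0 0 v')⁆
        = ⁅lift (X hK t 0 0), lift (X hK 0 0 v)⁆ *
          (lift (X hK 0 0 v) * ⁅lift (X hK t 0 0), lift (X hK 0 0 v')⁆ * (lift (X hK 0 0 v))⁻¹) := by
          simp only [commutatorElement_def]; group
      _ = _ := by rw [hcen hk, mul_inv_cancel_right]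
  have hβinv : ∀ (x : Kˣ) t v, β ((chi m x : K) * t) ((x : K) * v) = β t v := by
    intro x t v
    obtain ⟨ρ, hρ⟩ := hs (H hK x)
    apply Additive.toMul.injective
    apply Subtype.ext
    rw [← hβext (g := ρ * lift (X hK t 0 0) * ρ⁻¹) (by rw [map_mul, map_mul, map_inv, hρ, hlift, H_conj])
      (a := ρ * lift (X hK 0 0 v) * ρ⁻¹) (by rw [map_mul, map_mul, map_inv, hρ, hlift, H_conj, mul_zero, mul_zero]),
      ← conjugate_commutatorElement]
    show _ = ⁅lift (X hK t 0 0), lift (X hK 0 0 v)⁆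
    rw [hcen (by rw [hσc (hlift _) (hlift _), mul_zero, X_zero]) ρ, mul_inv_cancel_right]
  have hβzero : ∀ t v, β t v = 0 := by
    have hb0 : ∀ v, β 0 v = 0 := fun v => by
      have := hβl 0 0 v
      rw [add_zero] at this
      exact left_eq_add.1 this
    have hb : ∀ a : K, a ≠ 0 → ∀ v, β a v = β 1 ((gPow m a)⁻¹ * v) := by
      intro a ha v
      obtain ⟨x, hxa, hxv⟩ := chi_preimage hK (Units.mk0 a ha)
      have hxv' : (x : K) = gPow m a := by rw [hxv]; simp [gPow]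
      have h := hβinv x 1 ((gPow m a)⁻¹ * v)
      rw [hxa, Units.val_mk0, mul_one, hxv', mul_inv_cancel_left₀ (by rw [← hxv']; exact x.ne_zero)] at h
      exact h
    obtain ⟨a, ha0, ha1, hne⟩ := exists_nonadd hK hm
    have hone : ∀ v, β 1 v = 0 := by
      intro v
      set k := (gPow m (1 + a))⁻¹ - (1 + (gPow m a)⁻¹) with hk
      have hk0 : k ≠ 0 := sub_ne_zero.2 hne
      have h : ∀ w, β 1 (k * w) = 0 := by
        intro w
        have e1 := hβl 1 a w
        rw [hb (1 + a) ha1, hb a ha0] at e1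
        have e2 := hβr 1 (k * w) ((1 + (gPow m a)⁻¹) * w)
        rw [← add_mul, hk, sub_add_cancel, e1, add_mul (1 : K), one_mul, hβr 1 w] at e2
        exact (right_eq_add.1 e2)
      have := h (k⁻¹ * v)
      rwa [mul_inv_cancel_left₀ hk0] at this
    intro t v
    rcases eq_or_ne t 0 with rfl | ht
    · exact hb0 v
    · rw [hb t ht, hone]
  have hU2 : ∀ g c, InU g → (∃ v, σ c = X hK 0 0 v) → Commute g c := by
    rintro g c ⟨t, u, u₁, eg⟩ ⟨v, ec⟩
    rw [commute_iff_eq, ← commutatorElement_eq_one_iff_mul_comm, hβext eg ec, hβzero]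
    rfl
  -- the pairing of the first and the second coordinate
  let γ : Γ → Γ → Γ := fun g a => π ⁅g, a⁆
  have hγl : ∀ g h a, InU g → InU h → InU1 a → γ (g * h) a = γ g a * γ h a := by
    rintro g h a hg ⟨t', u', v', eh⟩ ⟨u'', v'', ea⟩
    obtain ⟨t, u, v, eg⟩ := hg
    have e1 := hσc eh ea
    have e2 := hσc eg ea
    show π ⁅g * h, a⁆ = π ⁅g, a⁆ * π ⁅h, a⁆
    have hcm : Commute g ⁅h, a⁆ := hU2 g _ ⟨t, u, v, eg⟩ ⟨_, e1⟩
    rw [show ⁅g * h, a⁆ = g * ⁅h, a⁆ * g⁻¹ * ⁅g, a⁆ by simp only [commutatorElement_def]; group, hcm.eq,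
      mul_inv_cancel_right, hπmul _ _ _ _ _ _ e1 e2, hcen (hπk _ _ _ e2)]
  have hγr : ∀ g a b, InU g → InU1 a → InU1 b → γ g (a * b) = γ g a * γ g b := by
    rintro g a b ⟨t, u, v, eg⟩ ⟨u', v', ea⟩ ⟨u'', v'', eb⟩
    show π ⁅g, a * b⁆ = π ⁅g, a⁆ * π ⁅g, b⁆
    have hcm : Commute a ⁅g, b⁆ := hU1 _ _ ⟨u', v', ea⟩ ⟨_, _, hσc eg eb⟩
    rw [show ⁅g, a * b⁆ = ⁅g, a⁆ * (a * ⁅g, b⁆ * a⁻¹) by simp only [commutatorElement_def]; group, hcm.eq,
      mul_inv_cancel_right, hπmul _ _ _ _ _ _ (hσc eg ea) (hσc eg eb)]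
  have hγzero : ∀ g a, InU g → InU1 a → γ g a = 1 := by
    rintro g a ⟨t, u, v, eg⟩ ⟨u', v', ea⟩
    have hred : ∀ {g a : Γ} {t u v u' v' : K}, σ g = X hK t u v → σ a = X hK 0 u' v' →
        γ g a = γ (lift (X hK t 0 0)) (lift (X hK 0 u' 0)) := by
      intro g a t u v u' v' eg ea
      set w := (lift (X hK t 0 0))⁻¹ * g with hw
      have ew : σ w = X hK 0 u v := by
        rw [hw, map_mul, map_inv, hlift, eg, inv_mul_eq_iff_eq_mul, X_mul]
        congr 1 <;> simp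
      set c := (lift (X hK 0 u' 0))⁻¹ * a with hcdef
      have ec : σ c = X hK 0 0 v' := by
        rw [hcdef, map_mul, map_inv, hlift, ea, inv_mul_eq_iff_eq_mul, hU1c, add_zero, zero_add]
      have k1 : γ w a = 1 := by
        show π ⁅w, a⁆ = 1
        rw [commutatorElement_eq_one_iff_mul_comm.2 (hU1 _ _ ⟨_, _, ew⟩ ⟨_, _, ea⟩).eq, hπker _ (map_one σ)]
      have k2 : γ (lift (X hK t 0 0)) c = 1 := by
        show π ⁅_, c⁆ = 1
        rw [commutatorElement_eq_one_iff_mul_comm.2 (hU2 _ _ ⟨_, _, _, hlift _⟩ ⟨_, ec⟩).eq, hπker _ (map_one σ)]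
      conv_lhs => rw [show g = lift (X hK t 0 0) * w by rw [hw]; group]
      rw [hγl _ _ _ ⟨_, _, _, hlift _⟩ ⟨_, _, _, ew⟩ ⟨_, _, ea⟩, k1, mul_one]
      conv_lhs => rw [show a = lift (X hK 0 u' 0) * c by rw [hcdef]; group]
      rw [hγr _ _ _ ⟨_, _, _, hlift _⟩ ⟨_, _, hlift _⟩ ⟨_, _, ec⟩, k2, mul_one]
    rw [hred eg ea]
    set g₀ := lift (X hK t 0 0)
    set a₀ := lift (X hK 0 u' 0)
    refine htwo _ (hπk _ _ _ (hσc (hlift _) (hlift _))) ?_
    obtain ⟨ρ, hρ⟩ := hs (H hK (-1))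
    have e1 : γ (ρ * g₀ * ρ⁻¹) (ρ * a₀ * ρ⁻¹) = γ g₀ a₀ := by
      show π ⁅_, _⁆ = π _
      rw [← conjugate_commutatorElement, hπρ _ ρ hρ _ _ _ (hσc (hlift _) (hlift _))]
    have eg' : σ (ρ * g₀ * ρ⁻¹) = X hK (-t) 0 0 := by
      rw [map_mul, map_mul, map_inv, hρ, hlift, H_conj, chi_neg_one.1, mul_zero, mul_zero, Units.val_neg,
        Units.val_one, neg_one_mul]
    have ea' : σ (ρ * a₀ * ρ⁻¹) = X hK 0 u' 0 := by
      rw [map_mul, map_mul, map_inv, hρ, hlift, H_conj, chi_neg_one.2, mul_zero, mul_zero, Units.val_one, one_mul]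
    rw [hred eg' ea'] at e1
    nth_rewrite 1 [← e1]
    rw [← hγl _ _ _ ⟨_, _, _, hlift _⟩ ⟨_, _, _, hlift _⟩ ⟨_, _, hlift _⟩]
    obtain ⟨w₁, w₂, ew⟩ : ∃ a b, σ (lift (X hK (-t) 0 0) * g₀) = X hK 0 a b :=
      ⟨_, _, by rw [map_mul, hlift, hlift, X_mul, neg_add_cancel]⟩
    show π ⁅_, a₀⁆ = 1
    rw [commutatorElement_eq_one_iff_mul_comm.2 (hU1 _ _ ⟨_, _, ew⟩ ⟨_, _, hlift _⟩).eq, hπker _ (map_one σ)]
  have hπconj : ∀ g a, InU g → InU1 a → π (g * a * g⁻¹) = π a := by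
    rintro g a ⟨t, u, v, eg⟩ ⟨u', v', ea⟩
    rw [show g * a * g⁻¹ = ⁅g, a⁆ * a by simp only [commutatorElement_def]; group,
      hπmul _ _ _ _ _ _ (hσc eg ea) ea, show π ⁅g, a⁆ = 1 from hγzero g a ⟨t, u, v, eg⟩ ⟨u', v', ea⟩, one_mul]
  -- the pairing of the first coordinate with itself
  have hσd : ∀ g h, InU g → InU h → InU1 ⁅g, h⁆ := by
    rintro g h ⟨t, u, v, eg⟩ ⟨t', u', v', eh⟩
    obtain ⟨a, b, c, e⟩ : ∃ a b c, σ ⁅g, h⁆ = X hK a b c := by
      obtain ⟨a₁, b₁, c₁, h1⟩ := ReeG2.uEl_inv K hK t u v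
      obtain ⟨a₂, b₂, c₂, h2⟩ := ReeG2.uEl_inv K hK t' u' v'
      have i1 : (X hK t u v)⁻¹ = X hK a₁ b₁ c₁ := Subtype.ext h1
      have i2 : (X hK t' u' v')⁻¹ = X hK a₂ b₂ c₂ := Subtype.ext h2
      rw [map_commutatorElement, eg, eh, commutatorElement_def, i1, i2, X_mul, X_mul, X_mul]
      exact ⟨_, _, _, rfl⟩
    have e' : σ ⁅g, h⁆ * (σ h * σ g) = σ g * σ h := by
      rw [map_commutatorElement, commutatorElement_def]; group
    rw [e, eg, eh, X_mul, X_mul, X_mul] at e'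
    have ha : a = 0 := by
      have := (X_inj hK e').1
      linear_combination this
    exact ⟨b, c, by rw [e, ha]⟩
  have hδl : ∀ g h k, InU g → InU h → InU k → π ⁅g * h, k⁆ = π ⁅h, k⁆ * π ⁅g, k⁆ := by
    intro g h k hg hh hk
    obtain ⟨u, v, e1⟩ := hσd h k hh hk
    obtain ⟨u', v', e2⟩ := hσd g k hg hk
    rw [show ⁅g * h, k⁆ = g * ⁅h, k⁆ * g⁻¹ * ⁅g, k⁆ by simp only [commutatorElement_def]; group]
    obtain ⟨u₁, v₁, e3⟩ : InU1 (g * ⁅h, k⁆ * g⁻¹) := by
      obtain ⟨t, a, b, eg⟩ := hg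
      rw [show g * ⁅h, k⁆ * g⁻¹ = ⁅g, ⁅h, k⁆⁆ * ⁅h, k⁆ by simp only [commutatorElement_def]; group]
      exact ⟨_, _, by rw [map_mul, hσc eg e1, e1, hU1c]⟩
    rw [hπmul _ _ _ _ _ _ e3 e2, hπconj _ _ hg ⟨u, v, e1⟩]
  have hδinv : ∀ (x : Kˣ) (ρ : Γ), σ ρ = H hK x → ∀ g h, InU g → InU h →
      π ⁅ρ * g * ρ⁻¹, ρ * h * ρ⁻¹⁆ = π ⁅g, h⁆ := by
    intro x ρ hρ g h hg hh
    obtain ⟨u, v, e⟩ := hσd g h hg hh
    rw [← conjugate_commutatorElement, hπρ x ρ hρ _ u v e]
  have hmemU1 : ∀ {g g' : Γ} {t u v u' v' : K}, σ g = X hK t u v → σ g' = X hK t u' v' → InU1 (g⁻¹ * g') := by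
    intro g g' t u v u' v' e e'
    obtain ⟨a, b, c, hi⟩ := ReeG2.uEl_inv K hK t u v
    have i1 : (X hK t u v)⁻¹ = X hK a b c := Subtype.ext hi
    have ha : a + t = 0 := by
      have h := inv_mul_cancel (X hK t u v)
      rw [i1, X_mul, ← X_zero hK] at h
      exact (X_inj hK h).1
    exact ⟨_, _, by rw [map_mul, map_inv, e, e', i1, X_mul, ha]⟩
  have hδright : ∀ g a, InU g → InU1 a → π ⁅g, a⁆ = 1 := hγzero
  have hδleft : ∀ g a, InU g → InU1 a → π ⁅a, g⁆ = 1 := by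
    intro g a hg ha
    obtain ⟨t, u, v, eg⟩ := hg
    obtain ⟨u', v', ea⟩ := ha
    have e1 := hσc eg ea
    have e2 : σ ⁅a, g⁆ = X hK 0 0 (-(t * u')) := by
      rw [← commutatorElement_inv, map_inv, e1, inv_eq_iff_mul_eq_one, hU1c, add_zero, add_neg_cancel, X_zero]
    have h := hπmul _ _ _ _ _ _ e2 e1
    rw [show ⁅a, g⁆ * ⁅g, a⁆ = 1 by rw [← commutatorElement_inv g a, inv_mul_cancel], hπker _ (map_one σ),
      hδright g a ⟨t, u, v, eg⟩ ⟨u', v', ea⟩, mul_one] at h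
    exact h.symm
  let δ : K → K → Additive σ.ker := fun t t' => Additive.ofMul
    ⟨π ⁅lift (X hK t 0 0), lift (X hK t' 0 0)⁆, by
      obtain ⟨u, v, e⟩ := hσd _ _ ⟨t, 0, 0, hlift _⟩ ⟨t', 0, 0, hlift _⟩
      exact hπk _ u v e⟩
  have hδext : ∀ {g h : Γ} {t u v t' u' v' : K}, σ g = X hK t u v → σ h = X hK t' u' v' →
      π ⁅g, h⁆ = ((δ t t').toMul : σ.ker) := by
    intro g h t u v t' u' v' eg eh
    show _ = π ⁅lift (X hK t 0 0), lift (X hK t' 0 0)⁆
    set g₀ := lift (X hK t 0 0) with hg₀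
    set h₀ := lift (X hK t' 0 0) with hh₀
    have hw := hmemU1 (hlift (X hK t 0 0)) eg
    have hw' := hmemU1 (hlift (X hK t' 0 0)) eh
    rw [← hg₀] at hw
    rw [← hh₀] at hw'
    have hInw : InU (g₀⁻¹ * g) := by obtain ⟨a, b, e⟩ := hw; exact ⟨0, a, b, e⟩
    have hIg : InU g₀ := ⟨_, _, _, hlift _⟩
    have hIh : InU h₀ := ⟨_, _, _, hlift _⟩
    have e1 : π ⁅g, h⁆ = π ⁅g₀, h⁆ := by
      conv_lhs => rw [show g = g₀ * (g₀⁻¹ * g) by group]
      rw [hδl _ _ _ hIg hInw ⟨_, _, _, eh⟩, hδleft h _ ⟨_, _, _, eh⟩ hw, one_mul]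
    obtain ⟨a, b, e⟩ := hσd g₀ h₀ hIg hIh
    obtain ⟨a', b', e'⟩ := hw'
    rw [e1, show ⁅g₀, h⁆ = ⁅g₀, h₀⁆ * (h₀ * ⁅g₀, h₀⁻¹ * h⁆ * h₀⁻¹) by simp only [commutatorElement_def]; group]
    obtain ⟨c, d, e''⟩ := hσd g₀ (h₀⁻¹ * h) hIg ⟨0, a', b', e'⟩
    rw [hπmul _ _ _ _ _ _ e (show σ (h₀ * ⁅g₀, h₀⁻¹ * h⁆ * h₀⁻¹) = X hK 0 0 (t' * c) * X hK 0 c d by
        rw [show h₀ * ⁅g₀, h₀⁻¹ * h⁆ * h₀⁻¹ = ⁅h₀, ⁅g₀, h₀⁻¹ * h⁆⁆ * ⁅g₀, h₀⁻¹ * h⁆ by
          simp only [commutatorElement_def]; group, map_mul, hσc (hlift _) e'', e'']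
        |>.trans (hU1c _ _ _ _)), hπconj _ _ hIh ⟨c, d, e''⟩, hδright _ _ hIg ⟨a', b', e'⟩, mul_one]
  have hδadd : ∀ t t' s, δ (t + t') s = δ t s + δ t' s := by
    intro t t' s
    apply Additive.toMul.injective
    apply Subtype.ext
    rw [← hδext (g := lift (X hK t 0 0) * lift (X hK t' 0 0)) (by rw [map_mul, hlift, hlift, X_mul]) (hlift (X hK s 0 0)),
      hδl _ _ _ ⟨_, _, _, hlift _⟩ ⟨_, _, _, hlift _⟩ ⟨_, _, _, hlift _⟩]
    exact hcen ((δ t s).toMul : σ.ker).2 _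
  have hδanti : ∀ t s, δ t s = -δ s t := by
    intro t s
    refine eq_neg_of_add_eq_zero_left ?_
    apply Additive.toMul.injective
    apply Subtype.ext
    show π ⁅lift (X hK t 0 0), lift (X hK s 0 0)⁆ * π ⁅lift (X hK s 0 0), lift (X hK t 0 0)⁆ = 1
    obtain ⟨a, b, e⟩ := hσd (lift (X hK t 0 0)) (lift (X hK s 0 0)) ⟨_, _, _, hlift _⟩ ⟨_, _, _, hlift _⟩
    obtain ⟨a', b', e'⟩ := hσd (lift (X hK s 0 0)) (lift (X hK t 0 0)) ⟨_, _, _, hlift _⟩ ⟨_, _, _, hlift _⟩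
    rw [← hπmul _ _ _ _ _ _ e e', ← commutatorElement_inv, inv_mul_cancel, hπker _ (map_one σ)]
  have hδzero : ∀ t t', δ t t' = 0 := by
    have hinv : ∀ (c : Kˣ) t t', δ ((c : K) * t) ((c : K) * t') = δ t t' := by
      intro c t t'
      obtain ⟨x, rfl⟩ := chi_surjective hK c
      obtain ⟨ρ, hρ⟩ := hs (H hK x)
      apply Additive.toMul.injective
      apply Subtype.ext
      rw [← hδext (g := ρ * lift (X hK t 0 0) * ρ⁻¹) (by rw [map_mul, map_mul, map_inv, hρ, hlift, H_conj])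
        (h := ρ * lift (X hK t' 0 0) * ρ⁻¹) (by rw [map_mul, map_mul, map_inv, hρ, hlift, H_conj]),
        hδinv x ρ hρ _ _ ⟨_, _, _, hlift _⟩ ⟨_, _, _, hlift _⟩]
      rfl
    exact pairing_eq_zero δ hδadd (fun a b c => by rw [hδanti a (b + c), hδadd, hδanti a b, hδanti a c]; abel)
      hd0 (hinv (Units.mk0 d hd0)) (hinv (Units.mk0 (d + 1) hd1)) hd2
  -- conclusion
  let N : Subgroup Γ :=
    { carrier := {w | InU1 w ∧ π w = 1}
      one_mem' := ⟨⟨0, 0, by rw [map_one, X_zero]⟩, hπker 1 (map_one σ)⟩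
      mul_mem' := fun {a b} ⟨⟨u, v, ea⟩, ha⟩ ⟨⟨u', v', eb⟩, hb⟩ =>
        ⟨⟨_, _, by rw [map_mul, ea, eb, hU1c]⟩, by rw [hπmul _ _ _ _ _ _ ea eb, ha, hb, one_mul]⟩
      inv_mem' := fun {a} ⟨⟨u, v, ea⟩, ha⟩ => by
        have e : σ a⁻¹ = X hK 0 (-u) (-v) := by
          rw [map_inv, ea, inv_eq_iff_mul_eq_one, hU1c, add_neg_cancel, add_neg_cancel, X_zero]
        refine ⟨⟨_, _, e⟩, ?_⟩
        have h := hπmul a a⁻¹ _ _ _ _ ea e
        rw [mul_inv_cancel, hπker 1 (map_one σ), ha, one_mul] at h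
        exact h.symm }
  have hsub : (commutator ↥T).map T.subtype ≤ N := by
    rw [map_le_iff_le_comap, _root_.commutator_def, commutator_le]
    rintro ⟨g, hg⟩ - ⟨h, hh⟩ -
    rw [mem_comap, map_commutatorElement]
    obtain ⟨t, u, v, eg⟩ := hT g hg
    obtain ⟨t', u', v', eh⟩ := hT h hh
    exact ⟨hσd g h ⟨t, u, v, eg⟩ ⟨t', u', v', eh⟩, by
      show π ⁅g, h⁆ = 1
      rw [hδext eg eh, hδzero]; rfl⟩
  exact ((hπker z hz).symm.trans (hsub hzT).2)

end Three

theorem zmodTwo_tables :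
    Multiplicative.ofAdd (1 : ZMod 2) ≠ 1 ∧
      (∀ p : Multiplicative (ZMod 2) × Multiplicative (ZMod 2) × Multiplicative (ZMod 2), p * p = 1) ∧
      ∀ p : Multiplicative (ZMod 2) × Multiplicative (ZMod 2) × Multiplicative (ZMod 2),
        (p.1, p.2.2, p.2.1 * p.2.2) = p → p = 1 ∨ p = (Multiplicative.ofAdd 1, 1, 1) := by
  decide

section Main

variable {K : Type*} [Field K] [Fintype K] {m : ℕ} (hK : Fintype.card K = 3 ^ (2 * m + 1))

theorem not_three_dvd (hm : 1 ≤ m) : ¬ 3 ∣ Nat.card (schurMult ↥(grpG2 hK).Tw) := by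
  have := charG2 hK
  have : Fact (Nat.Prime 3) := ⟨Nat.prime_three⟩
  obtain ⟨len, hR⟩ := (ChevTw.rulesG2 K).root
  have h0 := twG2_ok.isLongest (T := twistG2 hK) (fun _ => rfl) rfl
  have hi := KSG.TwAut.not_dvd_index (grpG2 hK) (ChevTw.rulesG2 K) hR h0 (p := 3) (fun a b h => h)
  refine not_dvd_card_schurMult_of_forall 3 fun Δ _ _ τ hτ hp => (eq_bot_iff_forall _).2 fun z hz => ?_
  set T : Subgroup Δ := (KSG.TwAut.UT (grpG2 hK)).comap τ with hT
  obtain ⟨k, hk⟩ := hp ⟨z, hz⟩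
  have hidx : T.index = (KSG.TwAut.UT (grpG2 hK)).index := index_comap_of_surjective _ hτ.1
  have : T.FiniteIndex := ⟨by rw [hidx]; exact Subgroup.FiniteIndex.index_ne_zero⟩
  refine comm_inf_ker hK hm hτ.1 hτ.2.1 hp T (fun g hg => (mem_UT_iff hK).1 hg) hz
    (mem_commutator_of_coprime T (hτ.2.1 hz) (hτ.2.2 hz)
      (show z ∈ T by rw [hT, mem_comap, MonoidHom.mem_ker.1 hz]; exact one_mem _)
      (n := 3 ^ k) (congrArg Subtype.val hk) ?_)
  exact hidx ▸ Nat.Coprime.pow_right k ((Nat.Prime.coprime_iff_not_dvd Nat.prime_three).2 hi).symm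

include hK in
open ReeG2 in
/-- A Sylow 2-subgroup with its element of order 3. -/
theorem eight_frame : ∃ (φ : Multiplicative (ZMod 2) × Multiplicative (ZMod 2) × Multiplicative (ZMod 2) →* ↥(RG K m))
    (g : ↥(RG K m)) (S : Sylow 2 ↥(RG K m)), Function.Injective φ ∧ (S : Subgroup ↥(RG K m)) = φ.range ∧
      φ (Multiplicative.ofAdd 1, 1, 1) = jT K hK ∧ g ^ 3 = 1 ∧
      ∀ p, g * φ p * g⁻¹ = φ (p.1, p.2.2, p.2.1 * p.2.2) := by
  have := charG2 hK
  have : Fact (Nat.Prime 2) := ⟨Nat.prime_two⟩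
  have h3 : (3 : K) = 0 := three_eq_zero hK
  let i2 : SL(2, K) := ⟨!![0, 1; -1, 0], by simp [Matrix.det_fin_two]⟩
  let k2 : SL(2, K) := ⟨!![1, 1; 1, -1], by
    simp [Matrix.det_fin_two]
    linear_combination -h3⟩
  have hv : ∀ a b : SL(2, K), (a * b).1 = a.1 * b.1 := Cfsg.Agent.Chev.RankOne.sl_mul_val
  have hii : i2 * i2 = -1 := by
    refine Subtype.ext ?_
    rw [hv]
    show _ = -(1 : Matrix (Fin 2) (Fin 2) K)
    ext a b
    fin_cases a <;> fin_cases b <;> simp [i2, Matrix.mul_apply, Fin.sum_univ_two]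
  have hkk : k2 * k2 = -1 := by
    refine Subtype.ext ?_
    rw [hv]
    show _ = -(1 : Matrix (Fin 2) (Fin 2) K)
    ext a b
    fin_cases a <;> fin_cases b <;> simp [k2, Matrix.mul_apply, Fin.sum_univ_two] <;> linear_combination h3
  have hik : i2 * k2 = -1 * (k2 * i2) := by
    refine Subtype.ext ?_
    rw [hv, hv (-1), hv]
    show _ = -(1 : Matrix (Fin 2) (Fin 2) K) * _
    rw [neg_mul, one_mul]
    ext a b
    fin_cases a <;> fin_cases b <;> simp [i2, k2, Matrix.mul_apply, Fin.sum_univ_two]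
  have hui : Cfsg.Agent.Chev.RankOne.upper 1 * i2 = -1 * k2 * Cfsg.Agent.Chev.RankOne.upper 1 := by
    refine Subtype.ext ?_
    rw [hv, hv, hv (-1), upper_val]
    show _ = -(1 : Matrix (Fin 2) (Fin 2) K) * _ * _
    rw [neg_mul, one_mul]
    ext a b
    fin_cases a <;> fin_cases b <;> simp [i2, k2, Matrix.mul_apply, Fin.sum_univ_two] <;>
      first | linear_combination h3 | linear_combination (-1 : K) * h3
  have huk : Cfsg.Agent.Chev.RankOne.upper 1 * k2 = -1 * (i2 * k2) * Cfsg.Agent.Chev.RankOne.upper 1 := by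
    refine Subtype.ext ?_
    rw [hv, hv, hv (-1), hv, upper_val]
    show _ = -(1 : Matrix (Fin 2) (Fin 2) K) * _ * _
    rw [neg_mul, one_mul]
    ext a b
    fin_cases a <;> fin_cases b <;> simp [i2, k2, Matrix.mul_apply, Fin.sum_univ_two] <;>
      first | linear_combination h3 | linear_combination (-1 : K) * h3
  let A : ↥(RG K m) := ⟨lHom K m i2, lHom_mem K hK i2⟩
  let B : ↥(RG K m) := ⟨lHom K m k2, lHom_mem K hK k2⟩
  let g : ↥(RG K m) := ⟨lHom K m (Cfsg.Agent.Chev.RankOne.upper 1), lHom_mem K hK _⟩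
  have hA : A * A = 1 := Subtype.ext (by
    show lHom K m i2 * lHom K m i2 = 1
    rw [← map_mul, hii, lHom_neg_one])
  have hB : B * B = 1 := Subtype.ext (by
    show lHom K m k2 * lHom K m k2 = 1
    rw [← map_mul, hkk, lHom_neg_one])
  have hJ : jT K hK * jT K hK = 1 := Subtype.ext (tor_negOne_sq K hK)
  have hAB : Commute A B := Subtype.ext (by
    show lHom K m i2 * lHom K m k2 = lHom K m k2 * lHom K m i2
    rw [← map_mul, hik, map_mul, lHom_neg_one, one_mul, map_mul])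
  have hJA : Commute (jT K hK) A := Subtype.ext (negOne_commute_lHom K hK i2).eq
  have hJB : Commute (jT K hK) B := Subtype.ext (negOne_commute_lHom K hK k2).eq
  have hgA : g * A * g⁻¹ = B := mul_inv_eq_iff_eq_mul.2 (Subtype.ext (by
    show lHom K m _ * lHom K m i2 = lHom K m k2 * lHom K m _
    rw [← map_mul, hui, map_mul, map_mul, lHom_neg_one, one_mul]))
  have hgB : g * B * g⁻¹ = A * B := mul_inv_eq_iff_eq_mul.2 (Subtype.ext (by
    show lHom K m _ * lHom K m k2 = lHom K m i2 * lHom K m k2 * lHom K m _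
    rw [← map_mul, huk, map_mul, map_mul, lHom_neg_one, one_mul, map_mul]))
  have hgJ : g * jT K hK * g⁻¹ = jT K hK :=
    mul_inv_eq_iff_eq_mul.2 (Subtype.ext (negOne_commute_lHom K hK _).symm.eq)
  have hg3 : g ^ 3 = 1 := Subtype.ext (by
    show lHom K m _ ^ 3 = 1
    rw [← map_pow, pow_succ, pow_two, upper_mul, upper_mul,
      show (1 : K) + 1 + 1 = 0 by linear_combination h3,
      show (Cfsg.Agent.Chev.RankOne.upper (0 : K) : SL(2, K)) = 1 by
        ext a b; fin_cases a <;> fin_cases b <;> simp [upper_val], map_one])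
  have ctwo : ∀ {x y : ↥(RG K m)} (hx : x * x = 1) (hy : y * y = 1), Commute x y →
      ∀ e f, Commute (twoHom x hx e) (twoHom y hy f) := by
    intro x y hx hy hc e f
    show Commute (if e = 1 then 1 else x) (if f = 1 then 1 else y)
    split_ifs <;> first | exact Commute.one_left _ | exact Commute.one_right _ | exact hc
  let φAB := (twoHom A hA).noncommCoprod (twoHom B hB) (ctwo hA hB hAB)
  have hcJ : ∀ e p, Commute (twoHom (jT K hK) hJ e) (φAB p) := fun e p => by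
    rw [MonoidHom.noncommCoprod_apply]
    exact (ctwo hJ hA hJA _ _).mul_right (ctwo hJ hB hJB _ _)
  let φ := (twoHom (jT K hK) hJ).noncommCoprod φAB hcJ
  obtain ⟨h01, hpp, key⟩ := zmodTwo_tables
  have t1 : ∀ (x : ↥(RG K m)) (hx : x * x = 1), twoHom x hx (Multiplicative.ofAdd 1) = x := fun x hx => by
    show (if Multiplicative.ofAdd (1 : ZMod 2) = 1 then 1 else x) = x
    exact if_neg h01
  have hnot : ∀ g : SL(2, K), g.1 0 1 ≠ 0 → lHom K m g ≠ 1 := by
    intro g hg h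
    rcases lHom_eq_one K m h with rfl | rfl
    · exact hg (by simp)
    · exact hg (by simp)
  have hinj : Function.Injective φ := by
    rw [injective_iff_map_eq_one]
    rintro ⟨e, a, b⟩ h
    simp only [φ, φAB, MonoidHom.noncommCoprod_apply] at h
    rcases zmodTwo_cases e with rfl | rfl <;> rcases zmodTwo_cases a with rfl | rfl <;>
      rcases zmodTwo_cases b with rfl | rfl <;>
      simp only [map_one, t1, one_mul, mul_one] at h
    · rfl
    · exact absurd (congrArg Subtype.val h) (hnot k2 (by simp [k2]))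
    · exact absurd (congrArg Subtype.val h) (hnot i2 (by simp [i2]))
    · refine absurd (congrArg Subtype.val h) ?_
      show lHom K m i2 * lHom K m k2 ≠ 1
      rw [← map_mul]
      exact hnot _ (by rw [hv]; simp [i2, k2, Matrix.mul_apply, Fin.sum_univ_two])
    all_goals exfalso
    · exact tor_negOne_ne K hK (congrArg Subtype.val h)
    · refine negOne_ne_lHom K hK k2⁻¹ ?_
      rw [map_inv]
      exact mul_eq_one_iff_eq_inv.1 (congrArg Subtype.val h)
    · refine negOne_ne_lHom K hK i2⁻¹ ?_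
      rw [map_inv]
      exact mul_eq_one_iff_eq_inv.1 (congrArg Subtype.val h)
    · refine negOne_ne_lHom K hK (i2 * k2)⁻¹ ?_
      rw [map_inv, map_mul]
      exact mul_eq_one_iff_eq_inv.1 (congrArg Subtype.val h)
  have h8 : Nat.card φ.range = 8 := by
    rw [← Nat.card_congr (MonoidHom.ofInjective hinj).toEquiv]
    simp [Nat.card_congr Multiplicative.toAdd, Nat.card_zmod]
  have hpsi : ∀ p, g * φ p * g⁻¹ = φ (p.1, p.2.2, p.2.1 * p.2.2) := by
    rintro ⟨e, a, b⟩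
    simp only [φ, φAB, MonoidHom.noncommCoprod_apply, map_mul]
    rcases zmodTwo_cases e with rfl | rfl <;> rcases zmodTwo_cases a with rfl | rfl <;>
      rcases zmodTwo_cases b with rfl | rfl <;>
      simp only [map_one, t1, one_mul, mul_one, conj_mul.symm, hgA, hgB, hgJ, mul_inv_cancel]
    all_goals
      rw [← mul_assoc B, ← hAB.eq, mul_assoc A]
  obtain ⟨S, hS⟩ := (IsPGroup.of_card (n := 3) h8 : IsPGroup 2 φ.range).exists_le_sylow
  have hSE : (S : Subgroup ↥(RG K m)) = φ.range := by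
    symm
    exact Subgroup.eq_of_le_of_card_ge hS (by rw [h8]; exact ((sylow_two K hK S).1).le)
  exact ⟨φ, g, S, hinj, hSE, by simp [φ, φAB, t1], hg3, hpsi⟩

include hK in
open ReeG2 in
theorem not_two_dvd (hm : 1 ≤ m) : ¬ 2 ∣ Nat.card (schurMult ↥(RG K m)) := by
  obtain ⟨φ, g, S, hinj, hSE, hj, hg3, hpsi⟩ := eight_frame hK
  obtain ⟨-, hpp, key⟩ := zmodTwo_tables
  have h8 : Nat.card φ.range = 8 := by
    rw [← Nat.card_congr (MonoidHom.ofInjective hinj).toEquiv]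
    simp [Nat.card_congr Multiplicative.toAdd, Nat.card_zmod]
  refine ElemEight.not_two_dvd (S := φ.range) (j := jT K hK) (g := g) (thm_S1116 hK hm) S hSE h8 ?_ ⟨_, hj⟩ ?_
    hg3 ?_ ?_ ?_
  · rintro _ ⟨p, rfl⟩
    rw [← map_mul, hpp, map_one]
  · exact fun h => tor_negOne_ne K hK (congrArg Subtype.val h)
  · rw [← hj, hpsi, one_mul]
  · rintro _ ⟨p, rfl⟩
    exact ⟨_, (hpsi p).symm⟩
  · rintro _ ⟨p, rfl⟩ h
    rw [hpsi] at h
    rcases key p (hinj h) with rfl | rfl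
    · exact Or.inl (map_one φ)
    · exact Or.inr hj

include hK in
/-- The multiplier of `²G₂(q)` is trivial. -/
theorem hasCyclicSchurMultiplier (hm : 1 ≤ m) : HasCyclicSchurMultiplier ↥(twistedG2 K (3 ^ m)) 1 := by
  refine hasCyclicSchurMultiplier_one_of_not_dvd fun p hp => ?_
  have : Fact p.Prime := ⟨hp⟩
  rcases eq_or_ne p 2 with rfl | h2
  · exact not_two_dvd hK hm
  rcases eq_or_ne p 3 with rfl | h3
  · exact not_three_dvd hK hm
  · obtain ⟨P⟩ : Nonempty (Sylow p ↥(twistedG2 K (3 ^ m))) := inferInstance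
    have := charG2 hK
    have := ReeG2.sylow_cyclic K hK (by have := hp.two_le; omega) P
    exact not_dvd_card_schurMult_of_subgroup p P.toSubgroup P.not_dvd_index
      (not_dvd_card_schurMult_of_isCyclic hp)

end Main

end Cfsg.Agent.CentralExt.Ree
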